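import Cfsg.Agent.Lib.Th.Graph.CoverData

/-! The covers, part 1. -/

set_option autoImplicit false
set_option maxRecDepth 100000
set_option Elab.async false

namespace Cfsg.Agent.Th.Graph

open Cfsg.Agent.HN

noncomputable section

theorem cov_ok5 : covOK dd 344 repsH repsC covers 5 = true := by decide +kernel

theorem cov_ok9 : covOK dd 344 repsH repsC covers 9 = true := by decide +kernel

theorem cov_ok10 : covOK dd 344 repsH repsC covers 10 = true := by decide +kernel

end

end Cfsg.Agent.Th.Graph
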