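import Cfsg.Agent.Lib.Th.Graph.Facts

/-! Checks of the facts, part 0. -/

set_option autoImplicit false
set_option maxRecDepth 100000
set_option Elab.async false

namespace Cfsg.Agent.Th.Graph

open Cfsg.Agent.HN

noncomputable section

theorem ok0 : dd.okRange 0 10 = true := by decide +kernel

theorem ok10 : dd.okRange 10 10 = true := by decide +kernel

theorem ok20 : dd.okRange 20 10 = true := by decide +kernel

theorem ok30 : dd.okRange 30 10 = true := by decide +kernel


end

end Cfsg.Agent.Th.Graph
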