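import Cfsg.Agent.Lib.Th.Graph.FactsCheck0
import Cfsg.Agent.Lib.Th.Graph.FactsCheck1
import Cfsg.Agent.Lib.Th.Graph.FactsCheck2
import Cfsg.Agent.Lib.Th.Graph.FactsCheck3
import Cfsg.Agent.Lib.Th.Graph.FactsCheck4
import Cfsg.Agent.Lib.Th.Graph.FactsCheck5
import Cfsg.Agent.Lib.Th.Graph.FactsCheck6
import Cfsg.Agent.Lib.Th.Graph.FactsCheck7
import Cfsg.Agent.Lib.Th.Graph.FactsCheck8

/-! All facts hold. -/

set_option autoImplicit false
set_option maxRecDepth 100000
set_option Elab.async false

namespace Cfsg.Agent.Th.Graph

open Cfsg.Agent.HN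

noncomputable section

/-- the number of facts -/
def numFacts : ℕ := 344

theorem holds : ∀ n < numFacts, dd.Holds n := all_hold fun n hn => by
  unfold numFacts at hn
  rcases Nat.lt_or_ge n 10 with h | h
  · have := allLo_spec ok0 (i := n - 0) (by omega)
    rwa [show Nat.add 0 (n - 0) = n by show 0 + (n - 0) = n; omega] at this
  rcases Nat.lt_or_ge n 20 with h | h
  · have := allLo_spec ok10 (i := n - 10) (by omega)
    rwa [show Nat.add 10 (n - 10) = n by show 10 + (n - 10) = n; omega] at this
  rcases Nat.lt_or_ge n 30 with h | h
  · have := allLo_spec ok20 (i := n - 20) (by omega)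
    rwa [show Nat.add 20 (n - 20) = n by show 20 + (n - 20) = n; omega] at this
  rcases Nat.lt_or_ge n 40 with h | h
  · have := allLo_spec ok30 (i := n - 30) (by omega)
    rwa [show Nat.add 30 (n - 30) = n by show 30 + (n - 30) = n; omega] at this
  rcases Nat.lt_or_ge n 50 with h | h
  · have := allLo_spec ok40 (i := n - 40) (by omega)
    rwa [show Nat.add 40 (n - 40) = n by show 40 + (n - 40) = n; omega] at this
  rcases Nat.lt_or_ge n 60 with h | h
  · have := allLo_spec ok50 (i := n - 50) (by omega)
    rwa [show Nat.add 50 (n - 50) = n by show 50 + (n - 50) = n; omega] at this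
  rcases Nat.lt_or_ge n 70 with h | h
  · have := allLo_spec ok60 (i := n - 60) (by omega)
    rwa [show Nat.add 60 (n - 60) = n by show 60 + (n - 60) = n; omega] at this
  rcases Nat.lt_or_ge n 80 with h | h
  · have := allLo_spec ok70 (i := n - 70) (by omega)
    rwa [show Nat.add 70 (n - 70) = n by show 70 + (n - 70) = n; omega] at this
  rcases Nat.lt_or_ge n 90 with h | h
  · have := allLo_spec ok80 (i := n - 80) (by omega)
    rwa [show Nat.add 80 (n - 80) = n by show 80 + (n - 80) = n; omega] at this
  rcases Nat.lt_or_ge n 100 with h | h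
  · have := allLo_spec ok90 (i := n - 90) (by omega)
    rwa [show Nat.add 90 (n - 90) = n by show 90 + (n - 90) = n; omega] at this
  rcases Nat.lt_or_ge n 110 with h | h
  · have := allLo_spec ok100 (i := n - 100) (by omega)
    rwa [show Nat.add 100 (n - 100) = n by show 100 + (n - 100) = n; omega] at this
  rcases Nat.lt_or_ge n 120 with h | h
  · have := allLo_spec ok110 (i := n - 110) (by omega)
    rwa [show Nat.add 110 (n - 110) = n by show 110 + (n - 110) = n; omega] at this
  rcases Nat.lt_or_ge n 130 with h | h
  · have := allLo_spec ok120 (i := n - 120) (by omega)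
    rwa [show Nat.add 120 (n - 120) = n by show 120 + (n - 120) = n; omega] at this
  rcases Nat.lt_or_ge n 140 with h | h
  · have := allLo_spec ok130 (i := n - 130) (by omega)
    rwa [show Nat.add 130 (n - 130) = n by show 130 + (n - 130) = n; omega] at this
  rcases Nat.lt_or_ge n 150 with h | h
  · have := allLo_spec ok140 (i := n - 140) (by omega)
    rwa [show Nat.add 140 (n - 140) = n by show 140 + (n - 140) = n; omega] at this
  rcases Nat.lt_or_ge n 160 with h | h
  · have := allLo_spec ok150 (i := n - 150) (by omega)
    rwa [show Nat.add 150 (n - 150) = n by show 150 + (n - 150) = n; omega] at this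
  rcases Nat.lt_or_ge n 170 with h | h
  · have := allLo_spec ok160 (i := n - 160) (by omega)
    rwa [show Nat.add 160 (n - 160) = n by show 160 + (n - 160) = n; omega] at this
  rcases Nat.lt_or_ge n 180 with h | h
  · have := allLo_spec ok170 (i := n - 170) (by omega)
    rwa [show Nat.add 170 (n - 170) = n by show 170 + (n - 170) = n; omega] at this
  rcases Nat.lt_or_ge n 190 with h | h
  · have := allLo_spec ok180 (i := n - 180) (by omega)
    rwa [show Nat.add 180 (n - 180) = n by show 180 + (n - 180) = n; omega] at this
  rcases Nat.lt_or_ge n 200 with h | h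
  · have := allLo_spec ok190 (i := n - 190) (by omega)
    rwa [show Nat.add 190 (n - 190) = n by show 190 + (n - 190) = n; omega] at this
  rcases Nat.lt_or_ge n 210 with h | h
  · have := allLo_spec ok200 (i := n - 200) (by omega)
    rwa [show Nat.add 200 (n - 200) = n by show 200 + (n - 200) = n; omega] at this
  rcases Nat.lt_or_ge n 220 with h | h
  · have := allLo_spec ok210 (i := n - 210) (by omega)
    rwa [show Nat.add 210 (n - 210) = n by show 210 + (n - 210) = n; omega] at this
  rcases Nat.lt_or_ge n 230 with h | h
  · have := allLo_spec ok220 (i := n - 220) (by omega)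
    rwa [show Nat.add 220 (n - 220) = n by show 220 + (n - 220) = n; omega] at this
  rcases Nat.lt_or_ge n 240 with h | h
  · have := allLo_spec ok230 (i := n - 230) (by omega)
    rwa [show Nat.add 230 (n - 230) = n by show 230 + (n - 230) = n; omega] at this
  rcases Nat.lt_or_ge n 250 with h | h
  · have := allLo_spec ok240 (i := n - 240) (by omega)
    rwa [show Nat.add 240 (n - 240) = n by show 240 + (n - 240) = n; omega] at this
  rcases Nat.lt_or_ge n 260 with h | h
  · have := allLo_spec ok250 (i := n - 250) (by omega)
    rwa [show Nat.add 250 (n - 250) = n by show 250 + (n - 250) = n; omega] at this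
  rcases Nat.lt_or_ge n 270 with h | h
  · have := allLo_spec ok260 (i := n - 260) (by omega)
    rwa [show Nat.add 260 (n - 260) = n by show 260 + (n - 260) = n; omega] at this
  rcases Nat.lt_or_ge n 280 with h | h
  · have := allLo_spec ok270 (i := n - 270) (by omega)
    rwa [show Nat.add 270 (n - 270) = n by show 270 + (n - 270) = n; omega] at this
  rcases Nat.lt_or_ge n 290 with h | h
  · have := allLo_spec ok280 (i := n - 280) (by omega)
    rwa [show Nat.add 280 (n - 280) = n by show 280 + (n - 280) = n; omega] at this
  rcases Nat.lt_or_ge n 300 with h | h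
  · have := allLo_spec ok290 (i := n - 290) (by omega)
    rwa [show Nat.add 290 (n - 290) = n by show 290 + (n - 290) = n; omega] at this
  rcases Nat.lt_or_ge n 310 with h | h
  · have := allLo_spec ok300 (i := n - 300) (by omega)
    rwa [show Nat.add 300 (n - 300) = n by show 300 + (n - 300) = n; omega] at this
  rcases Nat.lt_or_ge n 320 with h | h
  · have := allLo_spec ok310 (i := n - 310) (by omega)
    rwa [show Nat.add 310 (n - 310) = n by show 310 + (n - 310) = n; omega] at this
  rcases Nat.lt_or_ge n 330 with h | h
  · have := allLo_spec ok320 (i := n - 320) (by omega)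
    rwa [show Nat.add 320 (n - 320) = n by show 320 + (n - 320) = n; omega] at this
  rcases Nat.lt_or_ge n 340 with h | h
  · have := allLo_spec ok330 (i := n - 330) (by omega)
    rwa [show Nat.add 330 (n - 330) = n by show 330 + (n - 330) = n; omega] at this
  rcases Nat.lt_or_ge n 344 with h | h
  · have := allLo_spec ok340 (i := n - 340) (by omega)
    rwa [show Nat.add 340 (n - 340) = n by show 340 + (n - 340) = n; omega] at this
  omega

end

end Cfsg.Agent.Th.Graph
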