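import Cfsg.Agent.Lib.Th.Graph.StabData

/-! The stabilisers. -/

set_option autoImplicit false
set_option maxRecDepth 100000
set_option Elab.async false

namespace Cfsg.Agent.Th.Graph

open Cfsg.Agent.HN

noncomputable section

theorem stab2_ok : stabOK dd 344 2 stab2 [30, 31, 32, 33, 76, 77] stabChain2 = true := by decide +kernel

theorem stab2_size : chainSize stabChain2 = 13824 := by decide +kernel

theorem stab3_ok : stabOK dd 344 3 stab3 [36, 37, 38, 39, 40, 41, 42, 43, 46, 47] stabChain3 = true := by decide +kernel

theorem stab3_size : chainSize stabChain3 = 36864 := by decide +kernel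

theorem stab5_ok : stabOK dd 344 5 stab5 [80, 81, 82, 83, 84, 85, 88, 89] stabChain5 = true := by decide +kernel

theorem stab5_size : chainSize stabChain5 = 288 := by decide +kernel

theorem stab9_ok : stabOK dd 344 9 stab9 [126, 127, 128, 129, 132, 133, 144, 145, 146, 147] stabChain9 = true := by decide +kernel

theorem stab9_size : chainSize stabChain9 = 486 := by decide +kernel

theorem stab10_ok : stabOK dd 344 10 stab10 [150, 151, 152, 153, 154, 155] stabChain10 = true := by decide +kernel

theorem stab10_size : chainSize stabChain10 = 72 := by decide +kernel

theorem stab11_ok : stabOK dd 344 11 stab11 [158, 159, 160, 161, 162, 163, 266, 267] stabChain11 = true := by decide +kernel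

theorem stab11_size : chainSize stabChain11 = 3528 := by decide +kernel

theorem stab14_ok : stabOK dd 344 14 stab14 [182, 183, 186, 187, 190, 191] stabChain14 = true := by decide +kernel

theorem stab14_size : chainSize stabChain14 = 126 := by decide +kernel

theorem stab18_ok : stabOK dd 344 18 stab18 [212, 213, 222, 223, 224, 225, 228, 229] stabChain18 = true := by decide +kernel

theorem stab18_size : chainSize stabChain18 = 54 := by decide +kernel

theorem stab20_ok : stabOK dd 344 20 stab20 [306, 307, 366, 367] stabChain20 = true := by decide +kernel

theorem stab20_size : chainSize stabChain20 = 6 := by decide +kernel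

theorem stab22_ok : stabOK dd 344 22 stab22 [596, 597, 608, 609, 626, 627] stabChain22 = true := by decide +kernel

theorem stab22_size : chainSize stabChain22 = 78 := by decide +kernel


end

end Cfsg.Agent.Th.Graph
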