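import Cfsg.Agent.Lib.Th.Graph.FactsOK
import Cfsg.Agent.Lib.Th.Graph.RepsCheckH
import Cfsg.Agent.Lib.Th.Graph.RepsCheckC
import Cfsg.Agent.Lib.Th.Graph.CoverCheckH0
import Cfsg.Agent.Lib.Th.Graph.CoverCheckH1
import Cfsg.Agent.Lib.Th.Graph.CoverCheckH2
import Cfsg.Agent.Lib.Th.Graph.CoverCheckH3
import Cfsg.Agent.Lib.Th.Graph.CoverCheckC0
import Cfsg.Agent.Lib.Th.Graph.CoverCheckC1
import Cfsg.Agent.Lib.Th.Graph.CoverCheckC2
import Cfsg.Agent.Lib.Th.Graph.CoverCheckC3
import Cfsg.Agent.Lib.Th.Graph.StabCheck

/-!
The group of `a, b, c, d, e, s, t` has index at most 143127000 in the presented Thompson group.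
-/

set_option autoImplicit false
set_option maxRecDepth 100000
set_option Elab.async false

namespace Cfsg.Agent.Th.Graph

open Cfsg.Agent.HN

noncomputable section

theorem node_zero : dd.node 0 = 1 := node_root (by decide +kernel)

theorem covered : Covered dd where
  cross k hk w hw := by
    have h24 : dd.sides.length = 24 := by decide +kernel
    rw [h24] at hk
    refine cross_all holds repsH_ok repsC_ok (T := covers) ?_ hw
    unfold numFacts
    interval_cases k
    · exact cov_ok0
    · exact cov_ok1
    · exact cov_ok2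
    · exact cov_ok3
    · exact cov_ok4
    · exact cov_ok5
    · exact cov_ok6
    · exact cov_ok7
    · exact cov_ok8
    · exact cov_ok9
    · exact cov_ok10
    · exact cov_ok11
    · exact cov_ok12
    · exact cov_ok13
    · exact cov_ok14
    · exact cov_ok15
    · exact cov_ok16
    · exact cov_ok17
    · exact cov_ok18
    · exact cov_ok19
    · exact cov_ok20
    · exact cov_ok21
    · exact cov_ok22
    · exact cov_ok23
  root := ⟨node_zero, by decide +kernel, by decide +kernel⟩

/-- The sizes of the stabilisers of the nodes without `u`. -/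
def stabSize (m : ℕ) : ℕ := ([634023936, 0, 13824, 36864, 0, 288, 0, 0, 0, 486, 72, 3528, 0, 0, 126, 0, 0, 0, 54, 0, 6, 0, 78, 0] : List ℕ).getD m 0

theorem hNodes_eq : hNodes dd = {0, 2, 3, 5, 9, 10, 11, 14, 18, 20, 22} := by decide +kernel

theorem stabSize_le : ∀ m ∈ hNodes dd, 0 < stabSize m ∧ stabSize m ≤ Nat.card (stabN dd m) := by
  intro m hm
  rw [hNodes_eq] at hm
  simp only [Finset.mem_insert, Finset.mem_singleton] at hm
  rcases hm with rfl | rfl | rfl | rfl | rfl | rfl | rfl | rfl | rfl | rfl | rfl
  · refine ⟨by decide +kernel, ?_⟩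
    have h : stabN dd 0 = ⊤ := eq_top_iff.2 fun x _ => stabN_mem (y := x) (by simp [node_zero])
    rw [h, Subgroup.card_top, card_H0]
    decide +kernel
  · exact ⟨by decide +kernel, (stab2_size.trans (by decide +kernel : 13824 = stabSize 2)).ge.trans
      (stabN_card holds stab2_ok)⟩
  · exact ⟨by decide +kernel, (stab3_size.trans (by decide +kernel : 36864 = stabSize 3)).ge.trans
      (stabN_card holds stab3_ok)⟩
  · exact ⟨by decide +kernel, (stab5_size.trans (by decide +kernel : 288 = stabSize 5)).ge.trans
      (stabN_card holds stab5_ok)⟩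
  · exact ⟨by decide +kernel, (stab9_size.trans (by decide +kernel : 486 = stabSize 9)).ge.trans
      (stabN_card holds stab9_ok)⟩
  · exact ⟨by decide +kernel, (stab10_size.trans (by decide +kernel : 72 = stabSize 10)).ge.trans
      (stabN_card holds stab10_ok)⟩
  · exact ⟨by decide +kernel, (stab11_size.trans (by decide +kernel : 3528 = stabSize 11)).ge.trans
      (stabN_card holds stab11_ok)⟩
  · exact ⟨by decide +kernel, (stab14_size.trans (by decide +kernel : 126 = stabSize 14)).ge.trans
      (stabN_card holds stab14_ok)⟩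
  · exact ⟨by decide +kernel, (stab18_size.trans (by decide +kernel : 54 = stabSize 18)).ge.trans
      (stabN_card holds stab18_ok)⟩
  · exact ⟨by decide +kernel, (stab20_size.trans (by decide +kernel : 6 = stabSize 20)).ge.trans
      (stabN_card holds stab20_ok)⟩
  · exact ⟨by decide +kernel, (stab22_size.trans (by decide +kernel : 78 = stabSize 22)).ge.trans
      (stabN_card holds stab22_ok)⟩

/-- **The index of the group of `a, b, c, d, e, s, t` is finite and at most 143127000.** -/
theorem index_psi_le : psi.range.FiniteIndex ∧ psi.range.index ≤ 143127000 := by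
  obtain ⟨hf, hi⟩ := index_le covered stabSize_le
  refine ⟨hf, hi.trans (le_of_eq ?_)⟩
  rw [hNodes_eq]
  decide +kernel

end

end Cfsg.Agent.Th.Graph
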